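import Groth.Agent.SDiv.K475.OrdEta
import Groth.Agent.Lefpen.H521.CartierCoc
import Groth.Agent.Ega4late.H535.PicPrincipal

/-!
# Cartier cocycles and orders of rational sections

* `unitAt_of_ord`, `ord_of_unitAt`: units and rational functions of order zero;
* `exists_sec`: the rational sections of an invertible module with cocycle `a` are parametrized by
  the rational functions `b`, the order at `x` being `ord (b / a x)`.
-/

set_option autoImplicit false
universe u
open CategoryTheory CategoryTheory.Limits AlgebraicGeometry TopologicalSpace Opposite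

namespace K172.CocOrd

open Groth.Agent.CycB Groth.Agent.CycB.ModStalk Groth.Agent.CycB.C1Basic
open Groth.Agent.Lefpen.H725.CocDef Groth.Agent.Lefpen.H521.CartierCoc
open Groth.Agent.Ega4late.H535.PicPrincipal Groth.Agent.CurvesA.UfdStalk
open Groth.Agent.Ega4dB.CDivUFD

variable {X : Scheme.{u}} [IsIntegral X]

theorem germ_spec (L : X.Modules) {U : X.Opens} {x : X} (hx : x ∈ U) (hη : genericPoint X ∈ U)
    (s : Γ(L, U)) :
    L.presheaf.stalkSpecializes (genericPoint_specializes x) (L.presheaf.germ U x hx s) =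
      L.presheaf.germ U (genericPoint X) hη s :=
  TopCat.Presheaf.germ_stalkSpecializes_apply L.presheaf hx (genericPoint_specializes x) s

theorem res_germ (L : X.Modules) {U V : X.Opens} (h : V ≤ U) {x : X} (hx : x ∈ V)
    (s : Γ(L, U)) :
    L.presheaf.germ V x hx (Groth.Agent.Fdesc.LocGen.res L h s) = L.presheaf.germ U x (h hx) s :=
  L.presheaf.germ_res_apply (homOfLE h) x hx s

/-- The base vector of the generic stalk attached to a cocycle. -/
theorem exists_base {L : X.Modules} {a : X → X.functionField} (h : HasCoc L a) :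
    ∃ v : L.presheaf.stalk (genericPoint X), ModStalk.IsGen L (genericPoint X) v ∧
      ∀ x, ∃ t : L.presheaf.stalk x, ModStalk.IsGen L x t ∧
        L.presheaf.stalkSpecializes (genericPoint_specializes x) t =
          (show X.presheaf.stalk (genericPoint X) from a x) • v := by
  obtain ⟨h0, U, hxU, e, he, h⟩ := h
  have he' : ∀ x, ModStalk.IsGenOn L (U x) (e x) := fun x => he x
  have hη : ∀ x, genericPoint X ∈ U x := fun x => gen_mem (hxU x)
  let w := L.presheaf.germ (U (genericPoint X)) (genericPoint X) (hη _) (e (genericPoint X))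
  have hw : ModStalk.IsGen L (genericPoint X) w := (he' _).isGen _ _
  have hu : IsUnit (show X.presheaf.stalk (genericPoint X) from (a (genericPoint X))⁻¹) :=
    IsUnit.mk0 (G₀ := X.functionField) _ (inv_ne_zero (h0 _))
  refine ⟨(show X.presheaf.stalk (genericPoint X) from (a (genericPoint X))⁻¹) • w,
    hw.unit_smul hu, fun x => ⟨L.presheaf.germ (U x) x (hxU x) (e x), (he' _).isGen _ _, ?_⟩⟩
  rw [germ_spec L (hxU x) (hη x)]
  obtain ⟨g, hg', hg, ha⟩ := h x (genericPoint X)
  have h1 := congrArg (L.presheaf.germ (U x ⊓ U (genericPoint X)) (genericPoint X) hg') hg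
  rw [ModStalk.germ_smul, res_germ, res_germ] at h1
  rw [h1, ← mul_smul]
  congr 1
  change ff (U x ⊓ U (genericPoint X)) hg' g = a x * (a (genericPoint X))⁻¹
  rw [ha, mul_assoc, mul_inv_cancel₀ (h0 _), mul_one]

/-- Rational sections of an invertible module with a cocycle and their orders. -/
theorem exists_sec [IsLocallyNoetherian X] {L : X.Modules} (hL : PicF.IsInvertible L)
    {a : X → X.functionField} (h : HasCoc L a) :
    ∃ σ : X.functionField → Cyc.secFibre L (genericPoint X), (∀ b, b ≠ 0 → σ b ≠ 0) ∧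
      (∀ s, s ≠ 0 → ∃ b, b ≠ 0 ∧ s = σ b) ∧ ∀ b, b ≠ 0 → ∀ x : X, Order.coheight x = 1 →
        Cyc.secOrdAt L (genericPoint X) x (genericPoint_specializes x) (σ b) =
          Scheme.ord (b / a x) x := by
  have h0 := h.1
  obtain ⟨v, hv, ht⟩ := exists_base h
  refine ⟨fun b => (show X.presheaf.stalk (genericPoint X) from b) • cl L (genericPoint X) v,
    ?_, ?_, ?_⟩
  · intro b hb hb0
    rw [smul_cl_eq_zero_iff hv] at hb0
    exact hb (K475.OrdEta.residue_injective (hb0.trans (map_zero _).symm))
  · intro s hs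
    obtain ⟨b, rfl⟩ := exists_smul_cl hv s
    refine ⟨b, ?_, rfl⟩
    rintro rfl
    exact hs (zero_smul _ _)
  · intro b hb x hx
    obtain ⟨t, ht1, ht2⟩ := ht x
    have h1 : (show X.presheaf.stalk (genericPoint X) from b) • cl L (genericPoint X) v =
        (show X.presheaf.stalk (genericPoint X) from b / a x) • cl L (genericPoint X)
          (L.presheaf.stalkSpecializes (genericPoint_specializes x) t) := by
      rw [ht2, map_smul, ← mul_smul]
      congr 1
      exact (div_mul_cancel₀ b (h0 x)).symm
    have h2 : b / a x ≠ 0 := div_ne_zero hb (h0 x)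
    change Cyc.secOrdAt L (genericPoint X) x (genericPoint_specializes x)
      ((show X.presheaf.stalk (genericPoint X) from b) • cl L (genericPoint X) v) = _
    rw [h1, secOrdAt_smul hL _ ht1 _ (fun h3 => h2
      (K475.OrdEta.residue_injective (h3.trans (map_zero _).symm)))]
    exact K475.OrdEta.ordAt_eq_ord hx _

/-- A rational function which is a unit at `x` has order zero there. -/
theorem ord_of_unitAt [IsLocallyNoetherian X] {x : X} {u : X.functionField} (h : UnitAt x u) :
    Scheme.ord u x = 0 := by
  obtain ⟨U, hx, hη, g, hg, rfl⟩ := h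
  have h1 := ord_algebraMap_unit x (Units.map (X.presheaf.germ U x hx).hom.toMonoidHom hg.unit)
  rw [← h1]
  congr 1
  exact (sp_germ (genericPoint_specializes x) hx g).symm

/-- A unit germ is a unit near `x`. -/
theorem unitAt_of_isUnit {x : X} {t : X.presheaf.stalk x} (ht : IsUnit t) :
    UnitAt x (algebraMap (X.presheaf.stalk x) X.functionField t) := by
  obtain ⟨U, hxU, g, rfl⟩ := X.presheaf.exists_germ_eq t
  have hx : x ∈ X.basicOpen g := (X.mem_basicOpen g x hxU).mpr ht
  refine ⟨X.basicOpen g, hx, gen_mem hx,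
    X.presheaf.map (homOfLE (X.basicOpen_le g)).op g, X.toRingedSpace.isUnit_res_basicOpen g, ?_⟩
  change X.presheaf.germ _ _ _ (X.presheaf.map _ _) = _
  rw [TopCat.Presheaf.germ_res_apply]
  exact (sp_germ (genericPoint_specializes x) hxU g).symm

/-- On a normal scheme, a rational function of order zero at the points of codimension one
generizing `x` is a unit at `x`. -/
theorem unitAt_of_ord [IsLocallyNoetherian X]
    (hX : ∀ x : X, IsIntegrallyClosed (X.presheaf.stalk x)) {x : X} {u : X.functionField}
    (hu : u ≠ 0) (h : ∀ z : X, z ⤳ x → Order.coheight z = 1 → Scheme.ord u z = 0) :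
    UnitAt x u := by
  obtain ⟨t, ht⟩ := regPt_of_ord_nonneg hX x u hu (fun z hz hz1 => (h z hz hz1).ge)
  obtain ⟨t', ht'⟩ := regPt_of_ord_nonneg hX x u⁻¹ (inv_ne_zero hu) (fun z hz hz1 => by
    rw [ord_inv _ _ hu, h z hz hz1]
    simp)
  have h1 : t * t' = 1 := by
    apply (genPt_top X).sp_injective (y := x) trivial
    rw [map_mul, map_one, ht, ht']
    exact mul_inv_cancel₀ hu
  have h2 := unitAt_of_isUnit (IsUnit.of_mul_eq_one _ h1)
  have h3 : algebraMap (X.presheaf.stalk x) X.functionField t = u := ht
  rwa [h3] at h2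

/-- Orders do not change under units. -/
theorem ord_div_of_unitAt [IsLocallyNoetherian X] {z : X} {b u v : X.functionField} (hb : b ≠ 0)
    (h0 : v ≠ 0) (hu : u ≠ 0) (h : UnitAt z (u / v)) :
    Scheme.ord (b / u) z = Scheme.ord (b / v) z := by
  have h1 : b / v = b / u * (u / v) := by field_simp
  rw [h1, Scheme.ord_mul (div_ne_zero hb hu) (div_ne_zero hu h0), ord_of_unitAt h, add_zero]

/-- The structure module has the trivial cocycle. -/
theorem hasCoc_structureModule : HasCoc (Coh.structureModule X) (fun _ => (1 : X.functionField)) := by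
  have h1 : ∀ V : X.Opens, V ≤ ⊤ → Function.Bijective (fun a : Γ(X, V) =>
      a • Groth.Agent.Fdesc.LocGen.res (Coh.structureModule X) (le_top : V ≤ ⊤)
        (1 : Γ(X, ⊤))) := by
    intro V _
    have h2 : Groth.Agent.Fdesc.LocGen.res (Coh.structureModule X) (le_top : V ≤ ⊤)
        (1 : Γ(X, ⊤)) = (1 : Γ(X, V)) := (map_one (X.presheaf.map (homOfLE le_top).op).hom)
    rw [h2]
    refine ⟨fun a b hab => ?_, fun a => ⟨(show Γ(X, V) from a), mul_one (M := Γ(X, V)) a⟩⟩
    have h3 : a * (1 : Γ(X, V)) = b * (1 : Γ(X, V)) := hab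
    rwa [mul_one, mul_one] at h3
  refine ⟨fun _ => one_ne_zero, fun _ => ⊤, fun _ => trivial, fun _ => (1 : Γ(X, ⊤)),
    fun _ V hV => h1 V hV, fun x y => ⟨1, ⟨trivial, trivial⟩, ?_, ?_⟩⟩
  · rw [one_smul]
  · rw [map_one, one_mul]

end K172.CocOrd
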