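import Groth.Agent.Div21.K172.CocOrd
import Groth.Agent.S2877

/-!
# Codimension one cycles as divisors of rational sections

* `exists_near`: near a point with factorial local ring, a locally finite cycle is principal;
* `exists_of_local`: a cycle which is locally principal is the divisor of a rational section;
* `divisor_of_sec`: the Cartier divisor of a rational section.
-/

set_option autoImplicit false
universe u
open CategoryTheory CategoryTheory.Limits AlgebraicGeometry TopologicalSpace Opposite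

namespace K172.LocFact

open Groth.Agent.Lefpen.H725.CocDef Groth.Agent.Lefpen.H521.CartierCoc
open Groth.Agent.Ega4late.H535.PicPrincipal K172.CocOrd
open Groth.Agent.Ega4dB.CDivUFD

variable {X : Scheme.{u}} [IsIntegral X] [IsLocallyNoetherian X]

/-- Prescribed orders at finitely many points of codimension one near a factorial point. -/
theorem exists_near_finset (hX : ∀ x : X, IsIntegrallyClosed (X.presheaf.stalk x)) (x : X)
    (hufd : UniqueFactorizationMonoid (X.presheaf.stalk x)) (n : X → ℤ) (S : Finset X)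
    (hS : ∀ z ∈ S, Order.coheight z = 1) :
    ∃ (V : X.Opens) (h : X.functionField), x ∈ V ∧ h ≠ 0 ∧ ∀ z ∈ V, Order.coheight z = 1 →
      (z ∈ S → Scheme.ord h z = n z) ∧ (z ∉ S → Scheme.ord h z = 0) := by
  classical
  induction S using Finset.induction_on with
  | empty =>
    exact ⟨⊤, 1, trivial, one_ne_zero,
      fun z _ _ => ⟨fun h => absurd h (Finset.notMem_empty z), fun _ => ord_one z⟩⟩
  | insert ζ S hζ ih =>
    obtain ⟨V, h, hxV, h0, hh⟩ := ih (fun z hz => hS z (Finset.mem_insert_of_mem hz))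
    obtain ⟨V', f, hxV', hf⟩ := exists_local_prime hX ζ (hS ζ (Finset.mem_insert_self ζ S)) x hufd
    have hf0 : (f : X.functionField) ≠ 0 := f.ne_zero
    refine ⟨V ⊓ V', h * (f : X.functionField) ^ n ζ, ⟨hxV, hxV'⟩,
      mul_ne_zero h0 (zpow_ne_zero _ hf0), fun z hz hz1 => ?_⟩
    rw [Scheme.ord_mul h0 (zpow_ne_zero _ hf0), ord_zpow z _ hf0]
    by_cases hzζ : z = ζ
    · subst hzζ
      refine ⟨fun _ => ?_, fun hn => absurd (Finset.mem_insert_self z S) hn⟩
      rw [(hh z hz.1 hz1).2 hζ, (hf z hz.2 hz1).1 rfl]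
      ring
    · rw [(hf z hz.2 hz1).2 hzζ, mul_zero, add_zero]
      exact ⟨fun hm => (hh z hz.1 hz1).1 (Finset.mem_of_mem_insert_of_ne hm hzζ),
        fun hn => (hh z hz.1 hz1).2 fun hm => hn (Finset.mem_insert_of_mem hm)⟩

/-- A locally finite cycle is principal near a factorial point. -/
theorem exists_near (hX : ∀ x : X, IsIntegrallyClosed (X.presheaf.stalk x)) (x : X)
    (hufd : UniqueFactorizationMonoid (X.presheaf.stalk x)) (Z : X → ℤ)
    (hZ : ∀ x : X, Order.coheight x ≠ 1 → Z x = 0)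
    (hfin : ∃ W : X.Opens, x ∈ W ∧ {z : X | z ∈ W ∧ Z z ≠ 0}.Finite) :
    ∃ (V : X.Opens) (h : X.functionField), x ∈ V ∧ h ≠ 0 ∧ ∀ z ∈ V, Order.coheight z = 1 →
      Scheme.ord h z = Z z := by
  obtain ⟨W, hxW, hW⟩ := hfin
  obtain ⟨V, h, hxV, h0, hh⟩ := exists_near_finset hX x hufd Z hW.toFinset (by
    intro z hz
    by_contra hne
    exact (hW.mem_toFinset.mp hz).2 (hZ z hne))
  refine ⟨V ⊓ W, h, ⟨hxV, hxW⟩, h0, fun z hz hz1 => ?_⟩
  by_cases hzS : z ∈ hW.toFinset
  · exact (hh z hz.1 hz1).1 hzS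
  · rw [(hh z hz.1 hz1).2 hzS]
    by_contra hne
    exact hzS (hW.mem_toFinset.mpr ⟨hz.2, fun h => hne h.symm⟩)

/-- A cycle which is locally principal is the divisor of a rational section. -/
theorem exists_of_local (hX : ∀ x : X, IsIntegrallyClosed (X.presheaf.stalk x)) (Z : X → ℤ)
    (h : ∀ x : X, ∃ (V : X.Opens) (h : X.functionField), x ∈ V ∧ h ≠ 0 ∧ ∀ z ∈ V,
      Order.coheight z = 1 → Scheme.ord h z = Z z) :
    ∃ (L : X.Modules) (_ : PicF.IsInvertible L) (s : Cyc.secFibre L (genericPoint ↥X)), s ≠ 0 ∧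
      ∀ x : ↥X, Order.coheight x = 1 →
        Cyc.secOrdAt L (genericPoint ↥X) x (genericPoint_specializes x) s = Z x := by
  choose V g hxV hg0 hg using h
  obtain ⟨L, hL, hc⟩ := exists_of_loc (X := X) (fun x => (g x)⁻¹) (fun x => inv_ne_zero (hg0 x))
    (fun x => ⟨V x, hxV x, fun y hy => by
      refine unitAt_of_ord hX (div_ne_zero (inv_ne_zero (hg0 x)) (inv_ne_zero (hg0 y)))
        fun z hz hz1 => ?_
      have h1 : (g x)⁻¹ / (g y)⁻¹ = g y * (g x)⁻¹ := by
        rw [div_inv_eq_mul, mul_comm]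
      rw [h1, Scheme.ord_mul (hg0 y) (inv_ne_zero (hg0 x)), ord_inv _ _ (hg0 x),
        hg y z (hz.mem_open (V y).2 (hxV y)) hz1, hg x z (hz.mem_open (V x).2 hy) hz1]
      ring⟩)
  obtain ⟨σ, hσ0, -, hord⟩ := exists_sec hL hc
  refine ⟨L, hL, σ 1, hσ0 1 one_ne_zero, fun x hx => ?_⟩
  rw [hord 1 one_ne_zero x hx, one_div, inv_inv]
  exact hg x x (hxV x) hx

/-- The Cartier divisor of a rational section. -/
theorem divisor_of_sec (hX : ∀ x : X, IsIntegrallyClosed (X.presheaf.stalk x)) (Z : X → ℤ)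
    {L : X.Modules} (hL : PicF.IsInvertible L) {s : Cyc.secFibre L (genericPoint ↥X)} (hs : s ≠ 0)
    (h : ∀ x : ↥X, Order.coheight x = 1 →
        Cyc.secOrdAt L (genericPoint ↥X) x (genericPoint_specializes x) s = Z x) :
    ∃ D : CDiv.Divisor X, ∀ x : X, Order.coheight x = 1 → ∀ f : CDiv.KUnits X,
      D.1 x = CDiv.germOf X x f → Scheme.ord (f : ↑X.functionField) x = Z x := by
  obtain ⟨a, ha⟩ := exists_hasCoc hL
  obtain ⟨σ, -, hσ, hord⟩ := exists_sec hL ha
  obtain ⟨b, hb, rfl⟩ := hσ s hs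
  let g : X → CDiv.KUnits X := fun x => Units.mk0 (b / a x) (div_ne_zero hb (ha.1 x))
  choose U hxU hU using fun x => hasCoc_loc ha x
  refine ⟨⟨fun x => CDiv.germOf X x (g x), fun x => ⟨U x, g x, hxU x, fun y hy => ?_⟩⟩, ?_⟩
  · apply germOf_eq_of_ord_eq hX
    intro z hz hz1
    have h1 := ord_div_of_unitAt hb (ha.1 z) (ha.1 x) (hU x z (hz.mem_open (U x).2 hy))
    have h2 := ord_div_of_unitAt hb (ha.1 z) (ha.1 y) (hU y z (hz.mem_open (U y).2 (hxU y)))
    change Scheme.ord (b / a y) z = Scheme.ord (b / a x) z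
    rw [h1, h2]
  · intro x hx f hf
    rw [← ord_eq_of_germOf_eq x _ _ hf, ← h x hx, hord b hb x hx]
    rfl

end K172.LocFact
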