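import Groth.Agent.Ega4late.H533.NormalDesc
import Groth.Agent.CycB.LocQuot
import Groth.Agent.SDiv.K471.GenPts

/-!
# Effective Cartier ideals over a discrete valuation ring, fibres without embedded points
-/

set_option autoImplicit false
universe u
open CategoryTheory CategoryTheory.Limits AlgebraicGeometry TopologicalSpace

namespace K172.AssFib

open Groth.Agent.CycB.LocQuot Groth.Agent.Flat2D.FiberStalk
open Groth.Agent.Ega4late.H533.NormalDesc Groth.Agent.Ega4late.H533.DescScheme
open Groth.Agent.Divis.CartierBasic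

/-! ### Algebra -/

/-- Transfer of associated primes between nonzerodivisors. -/
theorem transfer {B : Type*} [CommRing B] (m : Ideal B) {a b : B} (ha : a ∈ nonZeroDivisors B)
    (hb : b ∈ nonZeroDivisors B) (hbm : b ∈ m) (h : ∃ c, c ∉ Ideal.span {a} ∧
      ∀ x ∈ m, x * c ∈ Ideal.span {a}) : ∃ d, d ∉ Ideal.span {b} ∧ ∀ x ∈ m, x * d ∈ Ideal.span {b} := by
  obtain ⟨c, hc, h⟩ := h
  obtain ⟨d, hd⟩ := Ideal.mem_span_singleton'.mp (h b hbm)
  refine ⟨d, fun hdb => ?_, fun x hx => ?_⟩
  · obtain ⟨e, rfl⟩ := Ideal.mem_span_singleton'.mp hdb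
    apply hc
    rw [Ideal.mem_span_singleton']
    refine ⟨e, ?_⟩
    have h1 : b * (e * a) = b * c := by rw [← hd]; ring
    exact (mul_cancel_left_mem_nonZeroDivisors hb).mp h1
  · obtain ⟨e, he⟩ := Ideal.mem_span_singleton'.mp (h x hx)
    rw [Ideal.mem_span_singleton']
    refine ⟨e, ?_⟩
    have h1 : a * (e * b) = a * (x * d) := by
      rw [← mul_assoc, mul_comm a e, he]
      linear_combination (-x) * hd
    exact (mul_cancel_left_mem_nonZeroDivisors ha).mp h1

/-- Detecting inclusions of ideals at associated primes. -/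
theorem exists_prime_of_not_le {A : Type*} [CommRing A] [IsNoetherianRing A] {I J : Ideal A}
    (h : ¬ I ≤ J) : ∃ (q : Ideal A) (_ : q.IsPrime) (c : A), c ∈ I ∧ ∀ t, t * c ∈ J ↔ t ∈ q := by
  let N : Submodule A (A ⧸ J) := Submodule.map (Submodule.mkQ J) I
  have hN : Nontrivial N := by
    rw [Submodule.nontrivial_iff_ne_bot]
    intro h0
    apply h
    intro a ha
    have h1 : Submodule.mkQ J a ∈ N := Submodule.mem_map_of_mem ha
    rw [h0, Submodule.mem_bot] at h1
    exact (Submodule.Quotient.mk_eq_zero J).mp h1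
  obtain ⟨q, hq⟩ := associatedPrimes.nonempty A N
  obtain ⟨hqp, ⟨x, hx⟩, hqx⟩ := Submodule.isAssociatedPrime_iff.mp hq
  obtain ⟨c, hc, rfl⟩ := Submodule.mem_map.mp hx
  refine ⟨q, hqp, c, hc, fun t => ?_⟩
  rw [hqx, Submodule.mem_colon_singleton, Submodule.mem_bot, ← Subtype.coe_inj]
  change _ ↔ t • Submodule.mkQ J c = 0
  rw [← map_smul]
  exact (Submodule.Quotient.mk_eq_zero J).symm

/-! ### Stalks -/

variable {X Y : Scheme.{u}}

/-- The prime of `O_{X,x}` and its localization. -/
theorem exists_point_of_not_le [IsLocallyNoetherian X] {x : X} {I J : Ideal (X.presheaf.stalk x)}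
    (h : ¬ I ≤ J) : ∃ (x' : X) (hx' : x' ⤳ x) (c : X.presheaf.stalk x'),
      c ∈ I.map (X.presheaf.stalkSpecializes hx').hom ∧
      c ∉ J.map (X.presheaf.stalkSpecializes hx').hom ∧
      ∀ t ∈ IsLocalRing.maximalIdeal (X.presheaf.stalk x'),
        t * c ∈ J.map (X.presheaf.stalkSpecializes hx').hom := by
  obtain ⟨q, hq, c, hcI, hc⟩ := exists_prime_of_not_le h
  obtain ⟨x', hx', hker⟩ : ∃ (x' : X) (hx' : x' ⤳ x),
      RingHom.ker (Cyc.specMap x x' hx') = q := by
    let P : PrimeSpectrum (X.presheaf.stalk x) := ⟨q, hq⟩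
    refine ⟨ptOf P, ptOf_specializes P, ?_⟩
    rw [← primeOf_asIdeal, primeOf_ptOf]
  subst hker
  let i7 := (X.presheaf.stalkSpecializes hx').hom.toAlgebra
  have i8 := isLocalization_stalkSpecializes hx'
  refine ⟨x', hx', algebraMap _ _ c, Ideal.mem_map_of_mem _ hcI, fun hmem => ?_, fun t ht => ?_⟩
  · have h1 : algebraMap (X.presheaf.stalk x) (X.presheaf.stalk x') c ∈
      J.map (algebraMap (X.presheaf.stalk x) (X.presheaf.stalk x')) := hmem
    rw [IsLocalization.algebraMap_mem_map_algebraMap_iff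
      (RingHom.ker (Cyc.specMap x x' hx')).primeCompl] at h1
    obtain ⟨s, hs, hsc⟩ := h1
    exact hs ((hc s).mp hsc)
  · obtain ⟨⟨a, s⟩, has⟩ := IsLocalization.surj
      (RingHom.ker (Cyc.specMap x x' hx')).primeCompl t
    simp only at has
    have hu : IsUnit (algebraMap (X.presheaf.stalk x) (X.presheaf.stalk x') s) :=
      IsLocalization.map_units _ s
    have haq : a ∈ RingHom.ker (Cyc.specMap x x' hx') := by
      rw [← IsLocalization.AtPrime.to_map_mem_maximal_iff (X.presheaf.stalk x')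
        (RingHom.ker (Cyc.specMap x x' hx')) a, ← has]
      exact Ideal.mul_mem_right _ _ ht
    have h1 : algebraMap (X.presheaf.stalk x) (X.presheaf.stalk x') (a * c) ∈
      J.map (algebraMap (X.presheaf.stalk x) (X.presheaf.stalk x')) :=
      Ideal.mem_map_of_mem _ ((hc a).mpr haq)
    rw [map_mul, ← has, mul_right_comm, mul_comm _ (algebraMap _ _ _)] at h1
    exact (Ideal.unit_mul_mem_iff_mem _ hu).mp h1

/-- A maximal point of a scheme with Noetherian local ring is associated. -/
theorem isAssociatedPrime_of_maximal (z : X) [IsNoetherianRing (X.presheaf.stalk z)]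
    (hz : ∀ w : X, w ⤳ z → w = z) :
    IsAssociatedPrime (IsLocalRing.maximalIdeal (X.presheaf.stalk z)) (X.presheaf.stalk z) := by
  obtain ⟨q, hq⟩ := associatedPrimes.nonempty (X.presheaf.stalk z) (X.presheaf.stalk z)
  have hqp : q.IsPrime := IsAssociatedPrime.isPrime hq
  let P : PrimeSpectrum (X.presheaf.stalk z) := ⟨q, hqp⟩
  have h1 : ptOf P = z := hz _ (ptOf_specializes P)
  have h2 : P = IsLocalRing.closedPoint (X.presheaf.stalk z) := by
    apply ptOf_injective z
    rw [h1]
    exact (Scheme.fromSpecStalk_closedPoint (X := X) (x := z)).symm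
  have h3 : q = IsLocalRing.maximalIdeal (X.presheaf.stalk z) := congrArg PrimeSpectrum.asIdeal h2
  rw [← h3]
  exact hq

variable (f : X ⟶ Y)

/-- The maximal ideal of the local ring of the fibre is associated. -/
theorem isAssociatedPrime_fiber {y : Y} (z : f.fiber y)
    [IsNoetherianRing ((f.fiber y).presheaf.stalk z)]
    (h : ∃ d : X.presheaf.stalk (f.fiberι y z), d ∉ fibreIdeal f (f.fiberι y z) ∧
      ∀ t ∈ IsLocalRing.maximalIdeal (X.presheaf.stalk (f.fiberι y z)),
        t * d ∈ fibreIdeal f (f.fiberι y z)) :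
    IsAssociatedPrime (IsLocalRing.maximalIdeal ((f.fiber y).presheaf.stalk z))
      ((f.fiber y).presheaf.stalk z) := by
  obtain ⟨d, hd, h⟩ := h
  rw [← ker_stalkMap_fiberι] at hd h
  refine Submodule.isAssociatedPrime_iff.mpr ⟨inferInstance, ((f.fiberι y).stalkMap z).hom d, ?_⟩
  ext t
  rw [Submodule.mem_colon_singleton, Submodule.mem_bot, smul_eq_mul]
  obtain ⟨t', rfl⟩ := stalkMap_fiberι_surjective f y z t
  rw [← map_mul]
  constructor
  · intro ht
    have h1 : t' ∈ IsLocalRing.maximalIdeal (X.presheaf.stalk (f.fiberι y z)) := by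
      rw [IsLocalRing.mem_maximalIdeal, mem_nonunits_iff] at ht ⊢
      exact fun hu => ht (hu.map _)
    exact h t' h1
  · intro ht
    by_contra hn
    have h1 : IsUnit (((f.fiberι y).stalkMap z).hom t') := by
      rw [IsLocalRing.mem_maximalIdeal, mem_nonunits_iff, not_not] at hn
      exact hn
    rw [map_mul, h1.mul_right_eq_zero] at ht
    exact hd ht

/-- A point of the fibre whose local ring has depth zero is maximal in the fibre if there are no
embedded points. -/
theorem maximal_of_ass [IsLocallyNoetherian X] {y : Y}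
    (hfib : ∀ z z' : ↥(f.fiber y),
      IsAssociatedPrime (IsLocalRing.maximalIdeal ↑((f.fiber y).presheaf.stalk z)) ↑((f.fiber y).presheaf.stalk z) →
      IsAssociatedPrime (IsLocalRing.maximalIdeal ↑((f.fiber y).presheaf.stalk z')) ↑((f.fiber y).presheaf.stalk z') →
      z' ⤳ z → z' = z) {x : X} (hx : f x = y)
    (h : ∃ d : X.presheaf.stalk x, d ∉ fibreIdeal f x ∧
      ∀ t ∈ IsLocalRing.maximalIdeal (X.presheaf.stalk x), t * d ∈ fibreIdeal f x) :
    ∀ x' : X, f x' = y → x' ⤳ x → x' = x := by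
  have hN : ∀ z : f.fiber y, IsNoetherianRing ((f.fiber y).presheaf.stalk z) := fun z =>
    isNoetherianRing_of_surjective _ _ _ (stalkMap_fiberι_surjective f y z)
  have hr : x ∈ Set.range (f.fiberι y) := by
    rw [f.range_fiberι]; exact hx
  obtain ⟨z, rfl⟩ := hr
  have hz := isAssociatedPrime_fiber f z h
  intro x' hx' hsp
  have hr' : x' ∈ Set.range (f.fiberι y) := by
    rw [f.range_fiberι]; exact hx'
  obtain ⟨z', rfl⟩ := hr'
  have hsp' : z' ⤳ z := (f.fiberι y).isEmbedding.isInducing.specializes_iff.mp hsp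
  obtain ⟨z₀, hz₀, hmax⟩ := K471.GenPts.exists_generic z'
  have h1 := hfib z z₀ hz (isAssociatedPrime_of_maximal z₀ hmax) (hz₀.trans hsp')
  subst h1
  rw [(hz₀.antisymm hsp').eq]

/-- The ideal generated by the uniformizer is the ideal of the fibre. -/
theorem fibreIdeal_eq {y : Y} (π : Y.presheaf.stalk y)
    (hπ : IsLocalRing.maximalIdeal (Y.presheaf.stalk y) = Ideal.span {π}) (x : X) (hx : f x = y)
    (h : f x ⤳ y) : fibreIdeal f x = Ideal.span {toStalk f h π} := by
  subst hx
  rw [toStalk_refl, fibreIdeal_def, hπ, Ideal.map_span, Set.image_singleton]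

/-- Descent at a discrete valuation ring, fibre without embedded points. -/
theorem descAt [IsLocallyNoetherian X] [Flat f] (𝓙 : X.IdealSheafData)
    (hJ : BlowUp.IsEffCartierIdeal 𝓙)
    (hmax : ∀ x : X, (∀ z : Y, z ⤳ f x → z = f x) → stalkIdeal 𝓙 x = ⊤) (y : Y)
    [IsDomain (Y.presheaf.stalk y)] [IsDiscreteValuationRing (Y.presheaf.stalk y)]
    (hfib : ∀ z z' : ↥(f.fiber y),
      IsAssociatedPrime (IsLocalRing.maximalIdeal ↑((f.fiber y).presheaf.stalk z)) ↑((f.fiber y).presheaf.stalk z) →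
      IsAssociatedPrime (IsLocalRing.maximalIdeal ↑((f.fiber y).presheaf.stalk z')) ↑((f.fiber y).presheaf.stalk z') →
      z' ⤳ z → z' = z)
    (π : Y.presheaf.stalk y) (hπ0 : π ≠ 0)
    (hπ : IsLocalRing.maximalIdeal (Y.presheaf.stalk y) = Ideal.span {π}) (n : ℕ)
    (H : ∀ (x : X) (hx : f x = y), (∀ z : X, f z = y → z ⤳ x → z = x) →
      stalkIdeal 𝓙 x = Ideal.span {(toStalk f (specializes_of_eq hx) π) ^ n}) : DescAt f 𝓙 y := by
  refine ⟨Ideal.span {π ^ n}, fun x h => ?_⟩
  change (Ideal.span {π ^ n}).map (toStalk f h) = _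
  rw [Ideal.map_span, Set.image_singleton, map_pow]
  by_cases hxy : f x = y
  swap
  · rw [hmax x (maximal_of_ne h hxy), Ideal.span_singleton_eq_top]
    exact (isUnit_toStalk f h hxy π hπ).pow n
  -- the two ideals at a generization
  have key : ∀ (x' : X) (hx' : x' ⤳ x) (c : X.presheaf.stalk x'),
      (c ∈ stalkIdeal 𝓙 x' ∧ c ∉ Ideal.span {(toStalk f ((hx'.map f.continuous).trans h) π) ^ n} ∧
        ∀ t ∈ IsLocalRing.maximalIdeal (X.presheaf.stalk x'),
          t * c ∈ Ideal.span {(toStalk f ((hx'.map f.continuous).trans h) π) ^ n}) ∨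
      (c ∈ Ideal.span {(toStalk f ((hx'.map f.continuous).trans h) π) ^ n} ∧ c ∉ stalkIdeal 𝓙 x' ∧
        ∀ t ∈ IsLocalRing.maximalIdeal (X.presheaf.stalk x'), t * c ∈ stalkIdeal 𝓙 x') → False := by
    intro x' hx' c hc
    have hxy' : f x' ⤳ y := (hx'.map f.continuous).trans h
    by_cases he : f x' = y
    · have hnz : toStalk f hxy' π ∈ nonZeroDivisors (X.presheaf.stalk x') := by
        subst he
        rw [toStalk_refl]
        exact Groth.Agent.Divis.EffCartier.map_mem_nonZeroDivisors_of_flat _ (Flat.stalkMap f x')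
          (mem_nonZeroDivisors_of_ne_zero hπ0)
      have hmem : toStalk f hxy' π ∈ IsLocalRing.maximalIdeal (X.presheaf.stalk x') := by
        have h1 := fibreIdeal_le f x'
        rw [fibreIdeal_eq f π hπ x' he hxy'] at h1
        exact h1 (Ideal.mem_span_singleton_self _)
      obtain ⟨g, hg, hgx⟩ := exists_stalkIdeal_eq_span hJ x'
      have hass : ∃ d : X.presheaf.stalk x', d ∉ Ideal.span {toStalk f hxy' π} ∧
          ∀ t ∈ IsLocalRing.maximalIdeal (X.presheaf.stalk x'),
            t * d ∈ Ideal.span {toStalk f hxy' π} := by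
        rcases hc with hc | hc
        · exact transfer _ (pow_mem hnz n) hnz hmem ⟨c, hc.2.1, hc.2.2⟩
        · refine transfer _ hg hnz hmem ⟨c, ?_, ?_⟩
          · rw [← hgx]; exact hc.2.1
          · rw [← hgx]; exact hc.2.2
      have h2 := H x' he (maximal_of_ass f hfib he (by
        rw [fibreIdeal_eq f π hπ x' he hxy']
        exact hass))
      rcases hc with hc | hc
      · apply hc.2.1
        rw [← h2]
        exact hc.1
      · apply hc.2.1
        rw [h2]
        exact hc.1
    · have h1 : Ideal.span {(toStalk f hxy' π) ^ n} = ⊤ :=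
        Ideal.span_singleton_eq_top.mpr ((isUnit_toStalk f hxy' he π hπ).pow n)
      have h2 : stalkIdeal 𝓙 x' = ⊤ := hmax x' (maximal_of_ne hxy' he)
      rcases hc with hc | hc
      · exact hc.2.1 (h1 ▸ trivial)
      · exact hc.2.1 (h2 ▸ trivial)
  have hmap1 : ∀ (x' : X) (hx' : x' ⤳ x),
      (Ideal.span {(toStalk f h π) ^ n}).map (X.presheaf.stalkSpecializes hx').hom =
        Ideal.span {(toStalk f ((hx'.map f.continuous).trans h) π) ^ n} := by
    intro x' hx'
    rw [Ideal.map_span, Set.image_singleton, map_pow, ← toStalk_comp f h hx',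
      RingHom.comp_apply]
  apply le_antisymm
  · by_contra hn
    obtain ⟨x', hx', c, hc1, hc2, hc3⟩ := exists_point_of_not_le hn
    rw [hmap1] at hc1
    rw [stalkIdeal_specializes] at hc2 hc3
    exact key x' hx' c (Or.inr ⟨hc1, hc2, hc3⟩)
  · by_contra hn
    obtain ⟨x', hx', c, hc1, hc2, hc3⟩ := exists_point_of_not_le hn
    rw [hmap1] at hc2 hc3
    rw [stalkIdeal_specializes] at hc1
    exact key x' hx' c (Or.inl ⟨hc1, hc2, hc3⟩)

end K172.AssFib
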