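import Groth.Agent.S0249
import Groth.Agent.Divis.StalkPrime
import Mathlib.RingTheory.Ideal.UFD
import Mathlib.RingTheory.Nakayama
import Mathlib.AlgebraicGeometry.Noetherian
import Mathlib.Topology.NoetherianSpace

/-!
# Local rings all of whose height one primes are generated by a nonzerodivisor
-/

set_option autoImplicit false
universe u
open CategoryTheory CategoryTheory.Limits AlgebraicGeometry TopologicalSpace

namespace K172.HeightOne

open Groth.Agent.CycB.LocQuot

/-- A Noetherian local ring of positive dimension whose height one primes are generated by a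
nonzerodivisor is a domain. -/
theorem isDomain_of_height_one (A : Type u) [CommRing A] [IsLocalRing A] [IsNoetherianRing A]
    (hdim : (1 : WithBot ℕ∞) ≤ ringKrullDim A)
    (h : ∀ p : Ideal A, p.IsPrime → p.height = 1 → ∃ t ∈ nonZeroDivisors A, p = Ideal.span {t}) :
    IsDomain A := by
  obtain ⟨p, hp, -, hp1⟩ := Groth.Agent.S0249.result A hdim 0 (zero_mem _)
  obtain ⟨t, ht, rfl⟩ := h p hp hp1
  -- a minimal prime inside `(t)`
  obtain ⟨q, hq, hqp⟩ := Ideal.exists_minimalPrimes_le (I := (⊥ : Ideal A))
    (J := Ideal.span {t}) bot_le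
  have hqprime : q.IsPrime := hq.1.1
  have hq0 : q.height = 0 := Ideal.height_eq_zero_iff.mpr hq
  have htq : t ∉ q := by
    intro htq
    have h1 : q = Ideal.span {t} := le_antisymm hqp (by
      rw [Ideal.span_singleton_le_iff_mem]; exact htq)
    rw [h1, hp1] at hq0
    exact one_ne_zero hq0
  have hmul : q ≤ Ideal.span {t} • q := by
    intro x hx
    obtain ⟨y, rfl⟩ := Ideal.mem_span_singleton'.mp (hqp hx)
    have hy : y ∈ q := (hqprime.mem_or_mem hx).resolve_right htq
    rw [mul_comm]
    exact Submodule.smul_mem_smul (Ideal.mem_span_singleton_self t) hy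
  have hbot : q = ⊥ := by
    refine Submodule.eq_bot_of_le_smul_of_le_jacobson_bot (Ideal.span {t}) q
      (IsNoetherian.noetherian q) hmul ?_
    rw [IsLocalRing.jacobson_eq_maximalIdeal _ bot_ne_top]
    exact IsLocalRing.le_maximalIdeal hp.ne_top
  rw [hbot] at hqprime
  exact (IsDomain.of_bot_isPrime A)

/-- In a locally Noetherian scheme a maximal point without proper specializations is isolated. -/
theorem isOpen_singleton_of_maximal {X : Scheme.{u}} [IsLocallyNoetherian X] (x : X)
    (hmax : ∀ z : X, z ⤳ x → z = x) (hcl : ∀ y : X, x ⤳ y → y = x) : IsOpen ({x} : Set X) := by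
  obtain ⟨V, hV, hxV, -⟩ := exists_isAffineOpen_mem_and_subset (x := x) (U := ⊤) trivial
  have : IsAffine V := hV
  have : IsNoetherian (V : Scheme.{u}) := { }
  have : NoetherianSpace (V : Scheme.{u}) := inferInstance
  let x' : (V : Scheme.{u}) := ⟨x, hxV⟩
  have hcl' : closure ({x'} : Set (V : Scheme.{u})) = {x'} := by
    apply le_antisymm _ subset_closure
    intro y hy
    have h1 : x' ⤳ y := specializes_iff_mem_closure.mpr hy
    have h2 : V.ι y = x := hcl _ (h1.map V.ι.continuous)
    exact V.ι.isOpenEmbedding.injective h2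
  have hirr : ({x'} : Set (V : Scheme.{u})) ∈ irreducibleComponents (V : Scheme.{u}) := by
    refine ⟨isIrreducible_singleton, ?_⟩
    intro Z hZ hle y hy
    have hZ' : IsIrreducible (closure Z) := hZ.closure
    obtain ⟨z, hz⟩ := QuasiSober.sober hZ' isClosed_closure
    have h1 : z ⤳ x' := hz.specializes (subset_closure (hle rfl))
    have h2 : V.ι z = x := hmax _ (h1.map V.ι.continuous)
    have h3 : z = x' := V.ι.isOpenEmbedding.injective h2
    have h4 : z ⤳ y := hz.specializes (subset_closure hy)
    rw [h3] at h4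
    rw [← hcl']
    exact specializes_iff_mem_closure.mp h4
  obtain ⟨o, ho, hne, hle⟩ :=
    NoetherianSpace.exists_isOpen_nonempty_subset_irreducibleComponent _ hirr
  have : o = {x'} := by
    obtain ⟨y, hy⟩ := hne
    apply le_antisymm hle
    rintro _ rfl
    have := hle hy
    rw [Set.mem_singleton_iff] at this
    rwa [← this]
  rw [this] at ho
  have h5 := V.ι.isOpenEmbedding.isOpenMap _ ho
  rwa [Set.image_singleton] at h5

/-- A maximal point of the spectrum of a stalk of dimension zero. -/
theorem eq_of_specializes_of_dim_zero {X : Scheme.{u}} (x : X)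
    (h : ringKrullDim (X.presheaf.stalk x) ≤ 0) (z : X) (hz : z ⤳ x) : z = x := by
  have h1 : primeOf hz = primeOf (specializes_refl x) := by
    have : Ring.KrullDimLE 0 (X.presheaf.stalk x) := by
      rw [Ring.krullDimLE_iff]
      exact_mod_cast h
    have hm : (primeOf hz).asIdeal.IsMaximal := Ideal.IsPrime.isMaximal' inferInstance
    rw [primeOf_refl]
    apply PrimeSpectrum.ext
    exact IsLocalRing.eq_maximalIdeal hm
  exact (primeOf_inj hz (specializes_refl x)).mp h1

theorem one_le_iff_not_le (a : WithBot ℕ∞) : 1 ≤ a ↔ ¬ a ≤ 0 := by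
  rw [not_le]
  exact WithBot.one_le_iff_pos a

theorem main (X : Scheme.{u}) [IsLocallyNoetherian X]
    (hred : ∀ x : ↥X, IsOpen ({x} : Set ↥X) → IsReduced ↑(X.presheaf.stalk x)) :
    (∀ ζ : ↥X, ringKrullDim ↑(X.presheaf.stalk ζ) = 1 → ∀ (x : ↥X) (h : ζ ⤳ x),
        ∃ t : ↑(X.presheaf.stalk x), t ∈ nonZeroDivisors ↑(X.presheaf.stalk x) ∧
          (IsLocalRing.maximalIdeal ↑(X.presheaf.stalk ζ)).comap (X.presheaf.stalkSpecializes h).hom =
            Ideal.span {t}) ↔
      ∀ x : ↥X, ∃ _ : IsDomain ↑(X.presheaf.stalk x),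
        UniqueFactorizationMonoid ↑(X.presheaf.stalk x) := by
  constructor
  · intro H
    have key : ∀ x : X, ∀ p : Ideal (X.presheaf.stalk x), p.IsPrime → p.height = 1 →
        ∃ t ∈ nonZeroDivisors (X.presheaf.stalk x), p = Ideal.span {t} := by
      intro x p hp hp1
      let q : PrimeSpectrum (X.presheaf.stalk x) := ⟨p, hp⟩
      have h1 := Groth.Agent.Divis.StalkPrime.height_eq q
      have h2 : ringKrullDim (X.presheaf.stalk (ptOf q)) = 1 := by
        rw [h1]
        change ((p.height : ℕ∞) : WithBot ℕ∞) = 1
        rw [hp1]; rfl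
      obtain ⟨t, ht, hte⟩ := H (ptOf q) h2 x (ptOf_specializes q)
      refine ⟨t, ht, ?_⟩
      rw [← hte]
      exact (congrArg PrimeSpectrum.asIdeal (primeOf_ptOf q)).symm
    have key2 : ∀ x : X, (1 : WithBot ℕ∞) ≤ ringKrullDim (X.presheaf.stalk x) →
        IsDomain (X.presheaf.stalk x) := fun x hx =>
      isDomain_of_height_one _ hx (key x)
    intro x
    by_cases hdim : (1 : WithBot ℕ∞) ≤ ringKrullDim (X.presheaf.stalk x)
    · have hd := key2 x hdim
      refine ⟨hd, ?_⟩
      apply UniqueFactorizationMonoid.of_forall_isPrincipal_of_height_eq_one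
      intro p hp hp1
      obtain ⟨t, -, ht⟩ := key x p hp hp1
      exact ⟨⟨t, ht⟩⟩
    · have hdim0 : ringKrullDim (X.presheaf.stalk x) ≤ 0 := by
        by_contra h
        exact hdim ((one_le_iff_not_le _).mpr h)
      have hK : Ring.KrullDimLE 0 (X.presheaf.stalk x) := by
        rw [Ring.krullDimLE_iff]
        exact_mod_cast hdim0
      have hmax := eq_of_specializes_of_dim_zero x hdim0
      suffices hR : IsReduced (X.presheaf.stalk x) by
        have hf : IsField (X.presheaf.stalk x) := by
          exact Ring.KrullDimLE.isField_of_isReduced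
        let := hf.toField
        exact ⟨hf.isDomain, inferInstance⟩
      by_cases hiso : ∀ y : X, x ⤳ y → y = x
      · exact hred x (isOpen_singleton_of_maximal x hmax hiso)
      · push Not at hiso
        obtain ⟨y, hxy, hne⟩ := hiso
        have hy : (1 : WithBot ℕ∞) ≤ ringKrullDim (X.presheaf.stalk y) := by
          by_contra h
          have h0 : ringKrullDim (X.presheaf.stalk y) ≤ 0 := by
            by_contra h'
            exact h ((one_le_iff_not_le _).mpr h')
          exact hne (eq_of_specializes_of_dim_zero y h0 x hxy).symm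
        have hd := key2 y hy
        let := (X.presheaf.stalkSpecializes hxy).hom.toAlgebra
        have hloc := isLocalization_stalkSpecializes hxy
        have := IsLocalization.isDomain_of_atPrime (X.presheaf.stalk x)
          (RingHom.ker (Cyc.specMap y x hxy))
        infer_instance
  · intro H ζ hζ x h
    obtain ⟨hd, hu⟩ := H x
    have hprime : ((IsLocalRing.maximalIdeal ↑(X.presheaf.stalk ζ)).comap
        (X.presheaf.stalkSpecializes h).hom).IsPrime := Ideal.comap_isPrime _ _
    have hheight : ((IsLocalRing.maximalIdeal ↑(X.presheaf.stalk ζ)).comap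
        (X.presheaf.stalkSpecializes h).hom).height = 1 := by
      have h1 := Groth.Agent.Divis.StalkPrime.height_eq (primeOf h)
      rw [ptOf_primeOf, hζ] at h1
      have h2 : ((primeOf h).asIdeal.height) = 1 := by exact_mod_cast h1.symm
      exact h2
    obtain ⟨t, ht⟩ := (UniqueFactorizationMonoid.isPrincipal_of_height_eq_one hheight).principal
    refine ⟨t, ?_, ht⟩
    rw [mem_nonZeroDivisors_iff_ne_zero]
    rintro rfl
    rw [Ideal.submodule_span_eq, Ideal.span_singleton_zero] at ht
    exact Ideal.ne_bot_of_height_eq_one hheight ht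
end K172.HeightOne
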