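import Groth.Agent.Ega4late.H533.DescScheme

/-!
# The inverse image of an ideal sheaf on `Spec O_{X,x}`
-/

set_option autoImplicit false
universe u
open CategoryTheory CategoryTheory.Limits AlgebraicGeometry TopologicalSpace

namespace K172.StalkSpec

open Groth.Agent.Divis.CartierBasic Groth.Agent.Ega4late.H533.DescScheme

variable {X : Scheme.{u}}

theorem ideal_comap_fromSpecStalk (𝓙 : X.IdealSheafData) (x : X) :
    (𝓙.comap (X.fromSpecStalk x)).ideal ⟨⊤, isAffineOpen_top _⟩ =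
      (stalkIdeal 𝓙 x).map (Scheme.ΓSpecIso (X.presheaf.stalk x)).inv.hom := by
  obtain ⟨V, hx⟩ := exists_affine (X := X) x
  have e : (⊤ : (Spec (X.presheaf.stalk x)).Opens) ≤ X.fromSpecStalk x ⁻¹ᵁ V.1 := by
    intro t _
    have h1 : X.fromSpecStalk x t ∈ Set.range (X.fromSpecStalk x) := ⟨t, rfl⟩
    rw [Scheme.range_fromSpecStalk] at h1
    have h2 : X.fromSpecStalk x t ⤳ x := h1
    exact h2.mem_open V.1.2 hx
  rw [Groth.Agent.Divis.IdealComap.ideal_comap _ (X.fromSpecStalk x) V ⟨⊤, isAffineOpen_top _⟩ e,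
    stalkIdeal_eq _ V hx, Ideal.map_map, ← CommRingCat.hom_comp]
  congr 2
  rw [Scheme.Hom.appLE, Scheme.fromSpecStalk_app hx, Category.assoc, Category.assoc,
    ← Functor.map_comp]
  have : ((homOfLE le_top).op ≫ (homOfLE e).op :
      Opposite.op (⊤ : (Spec (X.presheaf.stalk x)).Opens) ⟶ Opposite.op ⊤) = 𝟙 _ := rfl
  rw [this, CategoryTheory.Functor.map_id, Category.comp_id]

theorem stalkIdeal_eq_iff (𝓙 : X.IdealSheafData) (x : X) (a : X.presheaf.stalk x) :
    (𝓙.comap (X.fromSpecStalk x)).ideal ⟨⊤, isAffineOpen_top _⟩ =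
      Ideal.span {(Scheme.ΓSpecIso (X.presheaf.stalk x)).inv a} ↔
      stalkIdeal 𝓙 x = Ideal.span {a} := by
  have h1 : Ideal.span {(Scheme.ΓSpecIso (X.presheaf.stalk x)).inv a} =
      (Ideal.span {a}).map (Scheme.ΓSpecIso (X.presheaf.stalk x)).inv.hom := by
    rw [Ideal.map_span, Set.image_singleton]
  rw [ideal_comap_fromSpecStalk, h1]
  exact (Groth.Agent.Divis.IdealComap.map_injective_of_isIso _).eq_iff

end K172.StalkSpec
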